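-- helper27: team project CHO (S1082), package [NORM-D4]: block-monomial isometries normalize R.
import Mathlib
import Cfsg.Agent.Lib.Helper99.CHO.Defs

set_option autoImplicit false
open scoped MatrixGroups
open Matrix

namespace Cfsg.Agent.Lib.Helper27.CHO

open Cfsg.Agent.Lib.Helper99.CHO

universe u

/-- the index type of the natural module of `D4`. -/
abbrev I8 : Type := Fin 4 ⊕ Fin 4

/-- the permutation of the root indices induced by the swap of `e4` and `f4`. -/
def sigL : List ℕ :=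
  [0, 1, 3, 2, 4, 5, 6, 8, 7, 9, 11, 10, 13, 12, 14, 16, 15, 17, 18, 19, 21, 20, 22, 23]

def sig (r : ℕ) : ℕ := sigL.getD r 0

/-- the swap of the positions of `e4` and `f4`. -/
def pi8 (a : ℕ) : ℕ := if a = 3 then 7 else if a = 7 then 3 else a

/-- `e_i ↔ f_i` on positions. -/
def bar8 (a : ℕ) : ℕ := if a < 4 then a + 4 else a - 4

/-- row of the first non-zero entry of `N_r`. -/
def xL : List ℕ :=
  [4, 4, 3, 4, 2, 1, 5, 3, 5, 2, 3, 6, 2, 2, 1, 1, 1, 1, 0, 0, 0, 0, 0, 0]

/-- column of the first non-zero entry of `N_r`. -/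
def yL : List ℕ :=
  [1, 2, 0, 3, 0, 0, 2, 1, 3, 1, 2, 3, 7, 3, 2, 7, 3, 6, 1, 2, 7, 3, 6, 5]

theorem all_range {n : ℕ} {f : ℕ → Bool} (h : (List.range n).all f = true) (r : ℕ)
    (hr : r < n) : f r = true :=
  List.all_eq_true.mp h r (List.mem_range.mpr hr)

set_option maxRecDepth 100000 in
theorem tabSwap_bool : (List.range 24).all (fun r => (List.range 8).all fun a =>
    (List.range 8).all fun c =>
      decide (tab3 nListD4 (sig r) (pi8 a) (pi8 c) = tab3 nListD4 r a c)) = true := by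
  decide

theorem tabSwap (r a c : ℕ) (hr : r < 24) (ha : a < 8) (hc : c < 8) :
    tab3 nListD4 (sig r) (pi8 a) (pi8 c) = tab3 nListD4 r a c :=
  of_decide_eq_true (all_range (all_range (all_range tabSwap_bool r hr) a ha) c hc)

set_option maxRecDepth 100000 in
theorem tabSupp_bool : (List.range 24).all (fun r => (List.range 8).all fun a =>
    (List.range 8).all fun c =>
      decide (tab3 nListD4 r a c = 0 ∨ (a = xL.getD r 0 ∧ c = yL.getD r 0) ∨
        (a = bar8 (yL.getD r 0) ∧ c = bar8 (xL.getD r 0)))) = true := by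
  decide

theorem tabSupp (r a c : ℕ) (hr : r < 24) (ha : a < 8) (hc : c < 8) :
    tab3 nListD4 r a c = 0 ∨ (a = xL.getD r 0 ∧ c = yL.getD r 0) ∨
      (a = bar8 (yL.getD r 0) ∧ c = bar8 (xL.getD r 0)) :=
  of_decide_eq_true (all_range (all_range (all_range tabSupp_bool r hr) a ha) c hc)

theorem sig_lt (r : ℕ) (hr : r < 24) : sig r < 24 := by
  have h : (List.range 24).all (fun r => decide (sig r < 24)) = true := by decide
  exact of_decide_eq_true (all_range h r hr)

theorem xy_lt (r : ℕ) (hr : r < 24) : xL.getD r 0 < 8 ∧ yL.getD r 0 < 8 := by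
  have h : (List.range 24).all (fun r => decide (xL.getD r 0 < 8 ∧ yL.getD r 0 < 8)) = true := by
    decide
  exact of_decide_eq_true (all_range h r hr)

theorem ix8_lt (i : I8) : ix8 i < 8 := by
  rcases i with i | i
  · have := i.isLt
    simp only [ix8]
    omega
  · have := i.isLt
    simp only [ix8]
    omega

theorem ix8_injective : Function.Injective ix8 := by
  rintro (i | i) (j | j) h
  · simp only [ix8] at h
    exact congrArg Sum.inl (Fin.ext h)
  · have := i.isLt
    simp only [ix8] at h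
    omega
  · have := j.isLt
    simp only [ix8] at h
    omega
  · simp only [ix8] at h
    exact congrArg Sum.inr (Fin.ext (by omega))

theorem ix8_swap (i : I8) : ix8 (Sum.swap i) = bar8 (ix8 i) := by
  rcases i with i | i
  · have := i.isLt
    show 4 + i.val = bar8 i.val
    unfold bar8
    rw [if_pos this]
    omega
  · have := i.isLt
    show i.val = bar8 (4 + i.val)
    unfold bar8
    rw [if_neg (by omega)]
    omega

/-- the swap of `e4` and `f4`. -/
def piE : Equiv.Perm I8 := Equiv.swap (Sum.inl 3) (Sum.inr 3)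

theorem ix8_piE : ∀ i : I8, ix8 (piE i) = pi8 (ix8 i) := by decide

/-- the index at a position. -/
def ofIx8 (a : ℕ) : I8 :=
  if a < 4 then Sum.inl ⟨a % 4, Nat.mod_lt _ (by norm_num)⟩
  else Sum.inr ⟨(a - 4) % 4, Nat.mod_lt _ (by norm_num)⟩

theorem ix8_ofIx8 (a : ℕ) (ha : a < 8) : ix8 (ofIx8 a) = a := by
  unfold ofIx8
  split_ifs with h
  · simp only [ix8]
    omega
  · simp only [ix8]
    omega

section mono

variable {K : Type u} [Field K]

theorem nd4_apply (r : ℕ) (i j : I8) :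
    ND4 K r i j = ((tab3 nListD4 r (ix8 i) (ix8 j) : ℤ) : K) := rfl

theorem nd4_supp (r : ℕ) (hr : r < 24) (i j : I8) (h : ND4 K r i j ≠ 0) :
    (ix8 i = xL.getD r 0 ∧ ix8 j = yL.getD r 0) ∨
      (ix8 i = bar8 (yL.getD r 0) ∧ ix8 j = bar8 (xL.getD r 0)) := by
  rcases tabSupp r (ix8 i) (ix8 j) hr (ix8_lt i) (ix8_lt j) with h0 | h'
  · exfalso
    apply h
    rw [nd4_apply, h0, Int.cast_zero]
  · exact h'

/-- a monomial matrix semi-commutes with the root vectors. -/
theorem mono_mul_nd4 (D : Matrix I8 I8 K) (π : Equiv.Perm I8) (lam : I8 → K)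
    (hD : ∀ i j, D i j = if i = π j then lam j else 0) (r r' : ℕ) (χ : K)
    (h1 : ∀ i j, ND4 K r' (π i) (π j) = ND4 K r i j)
    (h2 : ∀ i j, ND4 K r i j ≠ 0 → lam i = χ * lam j) :
    D * ND4 K r = χ • (ND4 K r' * D) := by
  classical
  ext i j
  obtain ⟨i₀, rfl⟩ := π.surjective i
  rw [Matrix.mul_apply, Matrix.smul_apply, Matrix.mul_apply, smul_eq_mul]
  have e1 : ∑ k, D (π i₀) k * ND4 K r k j = lam i₀ * ND4 K r i₀ j := by
    rw [Finset.sum_eq_single i₀]
    · rw [hD, if_pos rfl]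
    · intro k _ hk
      rw [hD, if_neg (fun h => hk (π.injective h).symm), zero_mul]
    · intro h
      exact absurd (Finset.mem_univ _) h
  have e2 : ∑ k, ND4 K r' (π i₀) k * D k j = ND4 K r' (π i₀) (π j) * lam j := by
    rw [Finset.sum_eq_single (π j)]
    · rw [hD, if_pos rfl]
    · intro k _ hk
      rw [hD, if_neg hk, mul_zero]
    · intro h
      exact absurd (Finset.mem_univ _) h
  rw [e1, e2, h1]
  by_cases h0 : ND4 K r i₀ j = 0
  · rw [h0]
    ring
  · rw [h2 i₀ j h0]
    ring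

theorem mono_mul_ed4 (D : Matrix I8 I8 K) (π : Equiv.Perm I8) (lam : I8 → K)
    (hD : ∀ i j, D i j = if i = π j then lam j else 0) (r r' : ℕ) (χ : K)
    (h1 : ∀ i j, ND4 K r' (π i) (π j) = ND4 K r i j)
    (h2 : ∀ i j, ND4 K r i j ≠ 0 → lam i = χ * lam j) (t : K) :
    D * ED4mat K r t = ED4mat K r' (χ * t) * D := by
  unfold ED4mat
  rw [Matrix.mul_add, Matrix.mul_one, Matrix.add_mul, Matrix.one_mul, Matrix.mul_smul,
    mono_mul_nd4 D π lam hD r r' χ h1 h2, Matrix.smul_mul, smul_smul, mul_comm t χ]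

/-- conjugation of a root element by a monomial isometry. -/
theorem mono_conj {r : ℕ} (hr : r < 24) (D : Matrix I8 I8 K) (π : Equiv.Perm I8) (lam : I8 → K)
    (hD : ∀ i j, D i j = if i = π j then lam j else 0)
    (hlam : ∀ i, lam (Sum.swap i) * lam i = 1) (r' : ℕ)
    (h1 : ∀ i j, ND4 K r' (π i) (π j) = ND4 K r i j) :
    ∃ χ : K, ∀ t : K, D * ED4mat K r t = ED4mat K r' (χ * t) * D := by
  have hne : ∀ i, lam i ≠ 0 := fun i h => by
    have := hlam i
    rw [h, mul_zero] at this
    exact zero_ne_one this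
  have hinv : ∀ i, lam (Sum.swap i) = (lam i)⁻¹ := fun i => eq_inv_of_mul_eq_one_left (hlam i)
  obtain ⟨hx, hy⟩ := xy_lt r hr
  have hx0 := hne (ofIx8 (xL.getD r 0))
  have hy0 := hne (ofIx8 (yL.getD r 0))
  refine ⟨lam (ofIx8 (xL.getD r 0)) / lam (ofIx8 (yL.getD r 0)), fun t => ?_⟩
  apply mono_mul_ed4 D π lam hD r r' _ h1
  intro i j hij
  rcases nd4_supp r hr i j hij with ⟨hi, hj⟩ | ⟨hi, hj⟩
  · have ei : i = ofIx8 (xL.getD r 0) := ix8_injective (by rw [hi, ix8_ofIx8 _ hx])
    have ej : j = ofIx8 (yL.getD r 0) := ix8_injective (by rw [hj, ix8_ofIx8 _ hy])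
    rw [← ei, ← ej, div_mul_cancel₀ _ (hne j)]
  · have ei : i = Sum.swap (ofIx8 (yL.getD r 0)) :=
      ix8_injective (by rw [hi, ix8_swap, ix8_ofIx8 _ hy])
    have ej : j = Sum.swap (ofIx8 (xL.getD r 0)) :=
      ix8_injective (by rw [hj, ix8_swap, ix8_ofIx8 _ hx])
    rw [ei, ej, hinv, hinv, div_mul_eq_mul_div, mul_inv_cancel₀ hx0, one_div]

/-- the structure of a block-monomial isometry. -/
theorem dg_mono (d : GL I8 K) (hd : d ∈ DgD4 K) (r : ℕ) (hr : r < 24) :
    ∃ (π : Equiv.Perm I8) (lam : I8 → K) (r' : ℕ), r' < 24 ∧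
      (∀ i j, (d : Matrix I8 I8 K) i j = if i = π j then lam j else 0) ∧
      (∀ i, lam (Sum.swap i) * lam i = 1) ∧
      (∀ i j, ND4 K r' (π i) (π j) = ND4 K r i j) := by
  classical
  obtain ⟨D, hDdef⟩ : ∃ D : Matrix I8 I8 K, D = (d : Matrix I8 I8 K) := ⟨_, rfl⟩
  rw [← hDdef]
  have hQ : ∀ v : I8 → K, Cfsg.quadFormPlus 4 K (D *ᵥ v) = Cfsg.quadFormPlus 4 K v := by
    intro v
    rw [hDdef]
    exact hd.1 v v
  have z : ∀ i j : I8, i ≠ j → ¬ ((i = Sum.inl 3 ∨ i = Sum.inr 3) ∧
      (j = Sum.inl 3 ∨ j = Sum.inr 3)) → D i j = 0 := by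
    intro i j h1 h2
    rw [hDdef]
    exact hd.2 i j h1 h2
  have Z1 : ∀ m k : Fin 4, m ≠ k → D (Sum.inl m) (Sum.inl k) = 0 := by
    intro m k h
    refine z _ _ (fun h' => h (Sum.inl.inj h')) ?_
    rintro ⟨h1 | h1, h2 | h2⟩
    · exact h ((Sum.inl.inj h1).trans (Sum.inl.inj h2).symm)
    · exact Sum.inl_ne_inr h2
    · exact Sum.inl_ne_inr h1
    · exact Sum.inl_ne_inr h1
  have Z2 : ∀ m k : Fin 4, m ≠ k → D (Sum.inr m) (Sum.inr k) = 0 := by
    intro m k h
    refine z _ _ (fun h' => h (Sum.inr.inj h')) ?_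
    rintro ⟨h1 | h1, h2 | h2⟩
    · exact Sum.inr_ne_inl h1
    · exact Sum.inr_ne_inl h1
    · exact Sum.inr_ne_inl h2
    · exact h ((Sum.inr.inj h1).trans (Sum.inr.inj h2).symm)
  have Z3 : ∀ m k : Fin 4, ¬ (m = 3 ∧ k = 3) → D (Sum.inl m) (Sum.inr k) = 0 := by
    intro m k h
    refine z _ _ Sum.inl_ne_inr ?_
    rintro ⟨h1 | h1, h2 | h2⟩
    · exact Sum.inr_ne_inl h2
    · exact h ⟨Sum.inl.inj h1, Sum.inr.inj h2⟩
    · exact Sum.inl_ne_inr h1
    · exact Sum.inl_ne_inr h1
  have Z4 : ∀ m k : Fin 4, ¬ (m = 3 ∧ k = 3) → D (Sum.inr m) (Sum.inl k) = 0 := by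
    intro m k h
    refine z _ _ Sum.inr_ne_inl ?_
    rintro ⟨h1 | h1, h2 | h2⟩
    · exact Sum.inr_ne_inl h1
    · exact Sum.inr_ne_inl h1
    · exact h ⟨Sum.inr.inj h1, Sum.inl.inj h2⟩
    · exact Sum.inl_ne_inr h2
  have hcol : ∀ (j x : I8), (D *ᵥ Pi.single j (1 : K)) x = D x j := by
    intro j x
    simp [Matrix.mulVec, dotProduct, Pi.single_apply]
  have qv : ∀ (k : Fin 4) (a b : K), Cfsg.quadFormPlus 4 K
      (Pi.single (Sum.inl k) a + Pi.single (Sum.inr k) b) = a * b := by
    intro k a b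
    fin_cases k <;> simp [Cfsg.quadFormPlus, Pi.single_apply]
  have hS : ∀ k : Fin 4, (D (Sum.inl k) (Sum.inl k) + D (Sum.inl k) (Sum.inr k)) *
      (D (Sum.inr k) (Sum.inl k) + D (Sum.inr k) (Sum.inr k)) = 1 := by
    intro k
    have h := hQ (Pi.single (Sum.inl k) 1 + Pi.single (Sum.inr k) 1)
    rw [qv, mul_one] at h
    rw [← h]
    simp only [Cfsg.quadFormPlus, Matrix.mulVec_add, Pi.add_apply, hcol]
    symm
    apply Finset.sum_eq_single k
    · intro m _ hm
      rw [Z1 m k hm, Z3 m k (fun h' => hm (h'.1.trans h'.2.symm)), add_zero, zero_mul]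
    · intro h'
      exact absurd (Finset.mem_univ _) h'
  have hE : ∀ k : Fin 4, D (Sum.inl k) (Sum.inl k) * D (Sum.inr k) (Sum.inl k) = 0 := by
    intro k
    have h := hQ (Pi.single (Sum.inl k) 1)
    have h0 : Cfsg.quadFormPlus 4 K (Pi.single (Sum.inl k) (1 : K)) = 0 := by
      have := qv k 1 0
      rwa [Pi.single_zero, add_zero, mul_zero] at this
    rw [h0] at h
    rw [← h]
    simp only [Cfsg.quadFormPlus, hcol]
    symm
    apply Finset.sum_eq_single k
    · intro m _ hm
      rw [Z1 m k hm, zero_mul]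
    · intro h'
      exact absurd (Finset.mem_univ _) h'
  have hF : ∀ k : Fin 4, D (Sum.inl k) (Sum.inr k) * D (Sum.inr k) (Sum.inr k) = 0 := by
    intro k
    have h := hQ (Pi.single (Sum.inr k) 1)
    have h0 : Cfsg.quadFormPlus 4 K (Pi.single (Sum.inr k) (1 : K)) = 0 := by
      have := qv k 0 1
      rwa [Pi.single_zero, zero_add, zero_mul] at this
    rw [h0] at h
    rw [← h]
    simp only [Cfsg.quadFormPlus, hcol]
    symm
    apply Finset.sum_eq_single k
    · intro m _ hm
      rw [Z2 m k hm, mul_zero]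
    · intro h'
      exact absurd (Finset.mem_univ _) h'
  have hk3 : ∀ k : Fin 4, k ≠ 3 → D (Sum.inl k) (Sum.inl k) * D (Sum.inr k) (Sum.inr k) = 1 := by
    intro k hk
    have h := hS k
    rwa [Z3 k k (fun h' => hk h'.1), Z4 k k (fun h' => hk h'.1), add_zero, zero_add] at h
  by_cases hp : D (Sum.inl 3) (Sum.inl 3) = 0
  · -- the anti-diagonal case
    have h3 := hS 3
    have hf := hF 3
    rw [hp, zero_add] at h3
    have hq0 : D (Sum.inl 3) (Sum.inr 3) ≠ 0 := by
      intro h0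
      rw [h0, zero_mul] at h3
      exact zero_ne_one h3
    have hs : D (Sum.inr 3) (Sum.inr 3) = 0 := by
      rcases mul_eq_zero.mp hf with h' | h'
      · exact absurd h' hq0
      · exact h'
    rw [hs, add_zero] at h3
    have e1 : piE (Sum.inr 3) = (Sum.inl 3 : I8) := Equiv.swap_apply_right _ _
    have e2 : piE (Sum.inl 3) = (Sum.inr 3 : I8) := Equiv.swap_apply_left _ _
    have e3 : ∀ i : I8, i ≠ Sum.inl 3 → i ≠ Sum.inr 3 → piE i = i :=
      fun i h h' => Equiv.swap_apply_of_ne_of_ne h h'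
    refine ⟨piE, fun j => D (piE j) j, sig r, sig_lt r hr, ?_, ?_, ?_⟩
    · intro i j
      by_cases hij : i = piE j
      · rw [if_pos hij, hij]
      · rw [if_neg hij]
        by_cases hij' : i = j
        · subst hij'
          have hb : i = Sum.inl 3 ∨ i = Sum.inr 3 := by
            by_contra hcon
            push Not at hcon
            exact hij (e3 i hcon.1 hcon.2).symm
          rcases hb with rfl | rfl
          · exact hp
          · exact hs
        · by_cases hb : (i = Sum.inl 3 ∨ i = Sum.inr 3) ∧ (j = Sum.inl 3 ∨ j = Sum.inr 3)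
          · exfalso
            rcases hb with ⟨rfl | rfl, rfl | rfl⟩
            · exact hij' rfl
            · exact hij e1.symm
            · exact hij e2.symm
            · exact hij' rfl
          · exact z i j hij' hb
    · intro i
      show D (piE (Sum.swap i)) (Sum.swap i) * D (piE i) i = 1
      rcases i with k | k
      · by_cases hk : k = 3
        · subst hk
          rw [Sum.swap_inl, e1, e2]
          exact h3
        · rw [Sum.swap_inl, e3 _ (fun h => Sum.inr_ne_inl h) (fun h => hk (Sum.inr.inj h)),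
            e3 _ (fun h => hk (Sum.inl.inj h)) (fun h => Sum.inl_ne_inr h), mul_comm]
          exact hk3 k hk
      · by_cases hk : k = 3
        · subst hk
          rw [Sum.swap_inr, e1, e2, mul_comm]
          exact h3
        · rw [Sum.swap_inr, e3 _ (fun h => hk (Sum.inl.inj h)) (fun h => Sum.inl_ne_inr h),
            e3 _ (fun h => Sum.inr_ne_inl h) (fun h => hk (Sum.inr.inj h))]
          exact hk3 k hk
    · intro i j
      rw [nd4_apply, nd4_apply, ix8_piE, ix8_piE, tabSwap r _ _ hr (ix8_lt i) (ix8_lt j)]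
  · -- the diagonal case
    have hr0 : D (Sum.inr 3) (Sum.inl 3) = 0 := by
      rcases mul_eq_zero.mp (hE 3) with h' | h'
      · exact absurd h' hp
      · exact h'
    have h3 := hS 3
    rw [hr0, zero_add] at h3
    have hs0 : D (Sum.inr 3) (Sum.inr 3) ≠ 0 := by
      intro h0
      rw [h0, mul_zero] at h3
      exact zero_ne_one h3
    have hq0 : D (Sum.inl 3) (Sum.inr 3) = 0 := by
      rcases mul_eq_zero.mp (hF 3) with h' | h'
      · exact h'
      · exact absurd h' hs0
    rw [hq0, add_zero] at h3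
    have hkk : ∀ k : Fin 4, D (Sum.inl k) (Sum.inl k) * D (Sum.inr k) (Sum.inr k) = 1 := by
      intro k
      by_cases hk : k = 3
      · rw [hk]
        exact h3
      · exact hk3 k hk
    refine ⟨Equiv.refl I8, fun j => D j j, r, hr, ?_, ?_, fun i j => rfl⟩
    · intro i j
      show D i j = if i = j then D j j else 0
      by_cases hij : i = j
      · rw [if_pos hij, hij]
      · rw [if_neg hij]
        by_cases hb : (i = Sum.inl 3 ∨ i = Sum.inr 3) ∧ (j = Sum.inl 3 ∨ j = Sum.inr 3)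
        · rcases hb with ⟨rfl | rfl, rfl | rfl⟩
          · exact absurd rfl hij
          · exact hq0
          · exact hr0
          · exact absurd rfl hij
        · exact z i j hij hb
    · intro i
      show D (Sum.swap i) (Sum.swap i) * D i i = 1
      rcases i with k | k
      · rw [Sum.swap_inl, mul_comm]
        exact hkk k
      · rw [Sum.swap_inr]
        exact hkk k

theorem ed4_val (hU : PkgUnitD4.{u}) (r : Fin Cfsg.Lie.chevD4.nroots) (t : K) :
    ((ED4 K r t : GL I8 K) : Matrix I8 I8 K) = ED4mat K r.val t := by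
  have h : IsUnit (ED4mat K r.val t) := hU K r.val t r.isLt
  unfold ED4
  rw [dif_pos h]
  exact h.unit_spec

end mono

/-- [NORM-D4] from [UNIT-D4]. -/
theorem pkgNormD4_of (hU : PkgUnitD4.{u}) : PkgNormD4.{u} := by
  intro K _ d hd r t
  obtain ⟨π, lam, r', hr', hD, hlam, h1⟩ := dg_mono d hd r.val r.isLt
  obtain ⟨χ, hχ⟩ := mono_conj r.isLt (d : Matrix I8 I8 K) π lam hD hlam r' h1
  have key : d * ED4 K r t = ED4 K ⟨r', hr'⟩ (χ * t) * d := by
    apply Units.ext
    rw [Units.val_mul, Units.val_mul, ed4_val hU, ed4_val hU]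
    exact hχ t
  have h2 : d * ED4 K r t * d⁻¹ = ED4 K ⟨r', hr'⟩ (χ * t) := by
    rw [key, mul_inv_cancel_right]
  rw [h2]
  exact Subgroup.subset_closure ⟨(⟨r', hr'⟩, χ * t), rfl⟩

end Cfsg.Agent.Lib.Helper27.CHO
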